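import Groth.Agent.SubLib.ExtendWO
import Groth.Agent.DCohLib.SPerf
import Groth.Agent.PullbackMod.LocFree
import Groth.Prelude.Def_PerfAux

/-! The resolution property passes along affine morphisms. -/

set_option autoImplicit false
set_option backward.isDefEq.respectTransparency false
set_option backward.defeqAttrib.useBackward true
set_option linter.style.haveILetI false

universe u

open CategoryTheory CategoryTheory.Limits AlgebraicGeometry TopologicalSpace Opposite
open Groth.Agent.PullbackMod Groth.Agent.DCohLib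

noncomputable section

namespace Groth.Agent.ResPropLib

variable {X Y : Scheme.{u}}

theorem range_stalkLin_le {B : X.Modules} {ι : Type} {N : ι → X.Modules} [HasCoproduct N] (φ : ∀ i, N i ⟶ B)
    (i : ι) (x : X) :
    LinearMap.range (stalkLin (φ i) x) ≤ LinearMap.range (stalkLin (Sigma.desc φ) x) := by
  rw [← Sigma.ι_desc φ i, stalkLin_comp]
  exact LinearMap.range_comp_le_range _ _

/-- On an affine open the sections span the stalks. -/
theorem span_germ_eq_top (F : X.Modules) [Coh.IsQCoh F] {W : X.Opens} (hW : IsAffineOpen W) {x : X} (hx : x ∈ W)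
    (S : Set Γ(F, W)) (hS : Submodule.span Γ(X, W) S = ⊤) :
    Submodule.span (X.presheaf.stalk x) (F.presheaf.germ W x hx '' S) = ⊤ := by
  rw [eq_top_iff]
  intro z _
  obtain ⟨U, hxU, m, rfl⟩ := TopCat.Presheaf.exists_germ_eq F.presheaf z
  obtain ⟨f, hfle, hxf⟩ := hW.exists_basicOpen_le (V := U ⊓ W) ⟨x, hxU, hx⟩ hx
  obtain ⟨n, σ, hσ⟩ := (QCohLib.locAt F hW).extend f
    (F.presheaf.map (homOfLE (le_trans hfle inf_le_left : X.basicOpen f ≤ U)).op m)
  rw [CohBase.sc_apply] at hσ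
  have h2 := congrArg (F.presheaf.germ (X.basicOpen f) x hxf) hσ
  rw [SubLib.germ_smul', TopCat.Presheaf.germ_res_apply, TopCat.Presheaf.germ_res_apply, TopCat.Presheaf.germ_res_apply] at h2
  obtain ⟨u, hu⟩ : IsUnit (X.presheaf.germ W x hx (f ^ n)) := by
    rw [map_pow]
    exact ((X.mem_basicOpen f x hx).1 hxf).pow n
  have hmem := SubLib.germ_span_le (Q := Submodule.span (X.presheaf.stalk x) (F.presheaf.germ W x hx '' S))
    (P := ⊤) hx (fun t ht => Submodule.subset_span (Set.mem_image_of_mem _ ht)) hS.ge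
    (Submodule.mem_top (x := σ))
  rw [h2, ← hu] at hmem
  exact (Submodule.smul_mem_iff_of_isUnit _ u.isUnit).1 hmem

/-- A finite coproduct of finite locally free modules is finite locally free. -/
theorem isFinLocFree_sigma : ∀ (n : ℕ) (f : Fin n → X.Modules),
    (∀ i, FlatMod.IsFinLocFree (f i)) → FlatMod.IsFinLocFree (∐ f)
  | 0, f, _ => isFinLocFree_of_isZero ((IsZero.iff_id_eq_zero _).2 (Sigma.hom_ext _ _ fun i => i.elim0))
  | n + 1, f, hf => by
    refine isFinLocFree_of_retract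
      (Sigma.desc (Fin.cases (motive := fun i => f i ⟶ f 0 ⊞ ∐ fun i : Fin n => f i.succ)
        biprod.inl fun i => Sigma.ι (fun i : Fin n => f i.succ) i ≫ biprod.inr))
      (biprod.desc (Sigma.ι f 0) (Sigma.desc fun i => Sigma.ι f i.succ)) ?_
      (isFinLocFree_biprod (hf 0) (isFinLocFree_sigma n _ fun i => hf i.succ))
    refine Sigma.hom_ext _ _ fun i => ?_
    induction i using Fin.cases with
    | zero => simp
    | succ i => simp

theorem exists_map_through (f : X ⟶ Y) [QuasiCompact f] [QuasiSeparated f] [CompactSpace ↥Y]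
    [QuasiSeparatedSpace ↥Y] (hY : PerfAux.HasResolutionProperty Y) (M : X.Modules) [Coh.IsQCoh M]
    {U : Y.Opens} (hU : IsAffineOpen U) (s : Γ(M, f ⁻¹ᵁ U)) :
    ∃ (E : Y.Modules) (φ : (Scheme.Modules.pullback f).obj E ⟶ M), FlatMod.IsFinLocFree E ∧
      ∀ (x : X) (hx : x ∈ f ⁻¹ᵁ U), M.presheaf.germ (f ⁻¹ᵁ U) x hx s ∈ LinearMap.range (stalkLin φ x) := by
  let P := (Scheme.Modules.pushforward f).obj M
  haveI : Coh.IsQCoh P := QCohLib.isQCoh_pushforward M f
  obtain ⟨N₀, h₀, hs₀⟩ := SubLib.exists_good_section (M := P) hU (show Γ(P, U) from s)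
  obtain ⟨N, hN, hgood⟩ := SubLib.exists_good_qcqs hU.isCompact h₀
  obtain ⟨G, i, _, hGq, hGf, g, hg⟩ := SubLib.exists_sub_through (M := P) (show Γ(P, U) from s) hgood
    (fun z hz => by rw [hN z hz]; exact hs₀ z hz)
  haveI := hGq
  obtain ⟨E, π, hE, hπ⟩ := hY G hGq hGf
  let adj := Scheme.Modules.pullbackPushforwardAdjunction f
  let φ := (adj.homEquiv E M).symm (π ≫ i)
  refine ⟨E, φ, hE, fun x hx => ?_⟩
  obtain ⟨e, he⟩ := (epi_iff_stalk π).1 hπ (f x) (G.presheaf.germ U (f x) hx g)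
  obtain ⟨W, hW, e, rfl⟩ := TopCat.Presheaf.exists_germ_eq E.presheaf e
  rw [stalkLin_germ] at he
  obtain ⟨V, hV, j, j', hres⟩ := TopCat.Presheaf.germ_eq G.presheaf (f x) _ _ _ _ he
  let e' : Γ(E, V) := E.presheaf.map j.op e
  have h1 : (π ≫ i).app V e' = P.presheaf.map j'.op (show Γ(P, U) from s) := by
    show i.app V (π.app V (E.presheaf.map j.op e)) = _
    have n1 : π.app V (E.presheaf.map j.op e) = G.presheaf.map j.op (π.app W e) :=
      ConcreteCategory.congr_hom (π.mapPresheaf.naturality j.op) e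
    have n2 : i.app V (G.presheaf.map j'.op g) = P.presheaf.map j'.op (i.app U g) :=
      ConcreteCategory.congr_hom (i.mapPresheaf.naturality j'.op) g
    rw [n1, hres, n2, hg]
  have h2 : adj.unit.app E ≫ (Scheme.Modules.pushforward f).map φ = π ≫ i := by
    exact (Adjunction.homEquiv_unit (adj := adj) (X := E) (Y := M) (f := φ)).symm.trans
      ((adj.homEquiv E M).apply_symm_apply _)
  rw [← h2] at h1
  let t : Γ((Scheme.Modules.pullback f).obj E, f ⁻¹ᵁ V) := (adj.unit.app E).app V e'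
  refine ⟨((Scheme.Modules.pullback f).obj E).presheaf.germ (f ⁻¹ᵁ V) x hV t, ?_⟩
  rw [stalkLin_germ]
  refine (congrArg (M.presheaf.germ (f ⁻¹ᵁ V) x hV) h1).trans ?_
  exact M.presheaf.germ_res_apply ((Opens.map f.base).map j') x hV s

theorem hasResolutionProperty_of_affine (f : X ⟶ Y) [IsAffineHom f] [CompactSpace ↥Y]
    [QuasiSeparatedSpace ↥Y] (hY : PerfAux.HasResolutionProperty Y) : PerfAux.HasResolutionProperty X := by
  classical
  intro M hM hM'
  haveI := hM
  obtain ⟨T, hT, e⟩ := (isCompact_and_isOpen_iff_finite_and_eq_biUnion_affineOpens (U := (Set.univ : Set Y))).1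
    ⟨isCompact_univ, isOpen_univ⟩
  haveI := hT.fintype
  have haff : ∀ t : T, IsAffineOpen (f ⁻¹ᵁ t.1.1) := fun t => t.1.2.preimage f
  choose S hS using fun t : T => (QCohLib.finite_sections M hM' (haff t)).fg_top
  choose E φ hE hφ using fun p : Σ t : T, S t => exists_map_through f hY M p.1.1.2 p.2.1
  let ε := Fintype.equivFin (Σ t : T, S t)
  refine ⟨∐ fun k => (Scheme.Modules.pullback f).obj (E (ε.symm k)), Sigma.desc fun k => φ (ε.symm k),
    isFinLocFree_sigma _ _ fun k => isFinLocFree_pullback f _ (hE _), (epi_iff_stalk _).2 fun x => ?_⟩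
  rw [← LinearMap.range_eq_top]
  obtain ⟨a, ha, hxa⟩ := Set.mem_iUnion₂.mp (e.le (Set.mem_univ (f x)))
  let t : T := ⟨a, ha⟩
  have hx : x ∈ f ⁻¹ᵁ t.1.1 := hxa
  refine eq_top_iff.2 ((span_germ_eq_top M (haff t) hx _ (hS t)).ge.trans (Submodule.span_le.2 ?_))
  rintro _ ⟨s, hs, rfl⟩
  obtain ⟨k, hk⟩ := ε.symm.surjective ⟨t, ⟨s, hs⟩⟩
  have h3 := range_stalkLin_le (fun k => φ (ε.symm k)) k x
  refine h3 ?_
  rw [hk]
  exact hφ ⟨t, ⟨s, hs⟩⟩ x hx

end Groth.Agent.ResPropLib
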